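import Cfsg.Agent.PermParts.Main_m3
import Mathlib
import Cfsg.Agent.S0144
import Cfsg.Agent.Lib.ElemAbGL
import Cfsg.Agent.Lib.SubnormalJoin
import Cfsg.Agent.S0205
import Cfsg.Agent.FixBN.ReduceMain_m3
import Cfsg.Agent.SignalizersComponents.PCompQuot
import Cfsg.Agent.UGT.EndJ1.Main_m3
import Cfsg.Agent.KFacts.He.Classes
import Cfsg.Agent.KFacts.He.Outer
import Cfsg.Agent.KFacts.TwoSix.Sheet
import Cfsg.Agent.FastGrp
import Cfsg.Agent.Prune
set_option linter.all false

section
prune_inst 0x7f00000000000000000000000000000000000000000000000000000000000000000000000000000000000000000000000000000000000000000000000000000000000000000000000000000000000000003fffffffffffffffffffffffffffbeffbdffffffff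

-- part: PermParts/Consumer
section
set_option linter.all false
open scoped Cfsg.Agent.FastGrp

/-!
# The permuted product theorem for an internal decomposition

Let `S` be a Sylow 2-subgroup of `G`, `P i` independent subgroups of `fam 𝒜 S`, normalised by `fam 𝒜 S`, whose union is
strongly closed in `S`, and suppose that every involution of `P i` lies in a four-subgroup of `P i`.
* `eq_of_data`: if `G` is simple, at most one `P i` is non-trivial;
* `commutator_mem_of_data`: for `x ∈ P i`, `y ∈ P j`, `i ≠ j` and `g ∈ ⟨𝒜⟩` we have `[x^g, y] ∈ O(G)`.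
-/

set_option autoImplicit false

namespace Cfsg.Agent.PermParts.Consumer

open Subgroup
open Cfsg.Agent.TwoFusion.ClosedFam
open Cfsg.Agent.PermParts.Basic Cfsg.Agent.PermParts.OfProd

universe u v

variable {G : Type u} [Group G] [Finite G] {ι : Type v} {𝒜 : Set G} {S : Sylow 2 G} {P : ι → Subgroup G}

theorem orth_of_data (h : Data 𝒜 S P) {i j : ι} (hij : i ≠ j) {x y : G} (hx : x ∈ P i) (hy : y ∈ P j) (hx1 : x ≠ 1)
    (hy1 : y ≠ 1) : Orth (unionConj P) x y := by
  haveI : Nonempty ι := ⟨i⟩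
  exact h.multi.orth_of_notMem S.2 (h.le i _ hx).2 (h.le j _ hy).2
    (mem_unionConj hx) (mem_unionConj hy) (h.notMem_of_ne hij hx hy hx1 hy1)

/-- `[x^g, y] ∈ O(G)` for `x`, `y` in different factors and `g ∈ ⟨𝒜⟩` -/
theorem commutator_mem_of_data (h : Data 𝒜 S P)
    (hr : ∀ i, ∀ x ∈ P i, orderOf x = 2 → ∃ y ∈ P i, orderOf y = 2 ∧ y ≠ x ∧ x * y = y * x)
    {i j : ι} (hij : i ≠ j) {x y g : G} (hx : x ∈ P i) (hy : y ∈ P j) (hg : g ∈ fam 𝒜 (⊤ : Subgroup G)) :
    g * x * g⁻¹ * y * (g * x * g⁻¹)⁻¹ * y⁻¹ ∈ Cfsg.oddCore G := by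
  haveI : Nonempty ι := ⟨i⟩
  by_cases hx1 : x = 1
  · subst hx1
    have : g * 1 * g⁻¹ * y * (g * 1 * g⁻¹)⁻¹ * y⁻¹ = 1 := by group
    rw [this]; exact one_mem _
  by_cases hy1 : y = 1
  · subst hy1
    have : g * x * g⁻¹ * 1 * (g * x * g⁻¹)⁻¹ * 1⁻¹ = 1 := by group
    rw [this]; exact one_mem _
  exact Main.commutator_mem h.multi (h.rich hr) (orth_of_data h hij hx hy hx1 hy1) hg

/-- In a simple group at most one factor is non-trivial. -/
theorem eq_of_data [IsSimpleGroup G] (h : Data 𝒜 S P)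
    (hr : ∀ i, ∀ x ∈ P i, orderOf x = 2 → ∃ y ∈ P i, orderOf y = 2 ∧ y ≠ x ∧ x * y = y * x)
    {i j : ι} (hi : P i ≠ ⊥) (hj : P j ≠ ⊥) : i = j := by
  haveI : Nonempty ι := ⟨i⟩
  by_contra hij
  have hex : ∀ k, P k ≠ ⊥ → ∃ x ∈ P k, x ≠ 1 := fun k hk => by
    obtain ⟨⟨a, ha⟩, ha1⟩ := ne_bot_iff_exists_ne_one.1 hk
    exact ⟨a, ha, fun e => ha1 (Subtype.ext e)⟩
  obtain ⟨x, hx, hx1⟩ := hex i hi
  obtain ⟨y, hy, hy1⟩ := hex j hj
  exact Main.not_orth h.multi (h.rich hr) (orth_of_data h hij hx hy hx1 hy1)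

end Cfsg.Agent.PermParts.Consumer
end

-- part: FixBN/HeSB
section
set_option linter.all false
open scoped Cfsg.Agent.FastGrp

-- part: FixBN/SmallSB
section
/-!
Perfect subgroups of groups whose order has small odd part centralise the odd normal subgroups
(base cases of the B-theorem).
-/

set_option autoImplicit false

namespace Cfsg.Agent.FixBN.SmallSB

open Subgroup
open scoped commutatorElement

/-- `n` is good for the pair `(p, k)`: a group of order dividing `|GL_k(p)|` and `n / p ^ k` is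
solvable because its order has at most two prime divisors. -/
def GoodAt (n p k : ℕ) : Prop :=
  ∀ d : ℕ, p ^ k * d ∣ n → d ∣ Nat.card (GL (Fin k) (ZMod p)) → ∃ i j : ℕ, d = 2 ^ i * 3 ^ j

/-- The numerical condition. -/
def Good (n : ℕ) : Prop := ∀ p k : ℕ, p.Prime → p ≠ 2 → 2 ≤ k → p ^ k ∣ n → GoodAt n p k

theorem exists_prime_of_minimal {G : Type*} [Group G] [Finite G] {V : Subgroup G}
    (hVn : V.Normal) (hne : V ≠ ⊥) (hsol : Group.IsSolvable V)
    (hmin : ∀ N : Subgroup G, N.Normal → N ≤ V → N = ⊥ ∨ N = V) :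
    ∃ p : ℕ, p.Prime ∧ (∀ a ∈ V, ∀ b ∈ V, a * b = b * a) ∧ ∀ a ∈ V, a ^ p = 1 := by
  have hnt : Nontrivial V := (Subgroup.nontrivial_iff_ne_bot V).mpr hne
  have hcomm : ⁅V, V⁆ = ⊥ := by
    rcases hmin ⁅V, V⁆ inferInstance (Subgroup.commutator_le_left V V) with h | h
    · exact h
    · exfalso
      have h1 := Group.IsSolvable.commutator_lt_top_of_nontrivial V
      have h2 : (commutator V).map V.subtype = ⁅V, V⁆ := by
        rw [commutator_def, Subgroup.map_commutator, ← MonoidHom.range_eq_map,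
          Subgroup.range_subtype]
      rw [h] at h2
      apply h1.ne
      apply Subgroup.map_injective V.subtype_injective
      rw [h2, ← MonoidHom.range_eq_map, Subgroup.range_subtype]
  have hab : ∀ a ∈ V, ∀ b ∈ V, a * b = b * a := by
    intro a ha b hb
    have : ⁅a, b⁆ ∈ (⊥ : Subgroup G) := hcomm ▸ Subgroup.commutator_mem_commutator ha hb
    rw [Subgroup.mem_bot, commutatorElement_eq_one_iff_mul_comm] at this
    exact this
  obtain ⟨p, hp, hpd⟩ := Nat.exists_prime_and_dvd (n := Nat.card V)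
    (by rw [Ne, Subgroup.card_eq_one]; exact hne)
  have : Fact p.Prime := ⟨hp⟩
  let N : Subgroup G :=
    { carrier := {v | v ∈ V ∧ v ^ p = 1}
      one_mem' := ⟨V.one_mem, one_pow _⟩
      mul_mem' := by
        rintro a b ⟨ha, ha'⟩ ⟨hb, hb'⟩
        refine ⟨V.mul_mem ha hb, ?_⟩
        have hcom : Commute a b := hab a ha b hb
        rw [hcom.mul_pow, ha', hb', one_mul]
      inv_mem' := by
        rintro a ⟨ha, ha'⟩
        refine ⟨V.inv_mem ha, ?_⟩
        rw [inv_pow, ha', inv_one] }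
  have hNn : N.Normal := by
    refine ⟨?_⟩
    rintro a ⟨ha, ha'⟩ g
    refine ⟨hVn.conj_mem a ha g, ?_⟩
    rw [conj_pow, ha', mul_one, mul_inv_cancel]
  have hNV : N ≤ V := fun a ha => ha.1
  have hN1 : N ≠ ⊥ := by
    intro h
    obtain ⟨x, hx⟩ := exists_prime_orderOf_dvd_card' p hpd
    have h1 : (x : G) ∈ N := ⟨x.2, by
      have := pow_orderOf_eq_one x
      rw [hx] at this
      exact_mod_cast congrArg Subtype.val this⟩
    rw [h, Subgroup.mem_bot] at h1
    have h2 : x = 1 := Subtype.ext h1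
    rw [h2, orderOf_one] at hx
    exact hp.one_lt.ne hx
  rcases hmin N hNn hNV with h | h
  · exact absurd h hN1
  · exact ⟨p, hp, hab, fun a ha => (h.symm ▸ ha : a ∈ N).2⟩

theorem commutator_eq_bot_of_solvable_action {H : Type*} [Group H] {L N : Subgroup H} [N.Normal]
    (hL : ⁅L, L⁆ = L) (hs : Group.IsSolvable (MulAut.conjNormal (H := N)).range) :
    ⁅L, N⁆ = ⊥ := by
  have h1 : L.map (MulAut.conjNormal (H := N)).rangeRestrict = ⊥ := by
    have hp : ⁅L.map (MulAut.conjNormal (H := N)).rangeRestrict,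
        L.map (MulAut.conjNormal (H := N)).rangeRestrict⁆ =
        L.map (MulAut.conjNormal (H := N)).rangeRestrict := by
      rw [← map_commutator, hL]
    set A := L.map (MulAut.conjNormal (H := N)).rangeRestrict with hA
    have hsA : Group.IsSolvable A := inferInstance
    by_contra hne
    have : Nontrivial A := (Subgroup.nontrivial_iff_ne_bot A).mpr hne
    have h1 := Group.IsSolvable.commutator_lt_top_of_nontrivial A
    have h2 : (commutator A).map A.subtype = ⁅A, A⁆ := by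
      rw [commutator_def, Subgroup.map_commutator, ← MonoidHom.range_eq_map, Subgroup.range_subtype]
    rw [hp] at h2
    apply h1.ne
    apply Subgroup.map_injective A.subtype_injective
    rw [h2, ← MonoidHom.range_eq_map, Subgroup.range_subtype]
  rw [Subgroup.commutator_eq_bot_iff_le_centralizer]
  intro l hl
  rw [Subgroup.mem_centralizer_iff]
  intro x hx
  have h2 : (MulAut.conjNormal (H := N)).rangeRestrict l = 1 := by
    have : (MulAut.conjNormal (H := N)).rangeRestrict l ∈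
        L.map (MulAut.conjNormal (H := N)).rangeRestrict := ⟨l, hl, rfl⟩
    rw [h1, Subgroup.mem_bot] at this
    exact this
  have h3 : (MulAut.conjNormal l : MulAut N) = 1 := congrArg Subtype.val h2
  have h4 := congrArg (fun φ : MulAut N => ((φ ⟨x, hx⟩ : N) : H)) h3
  simp only [MulAut.conjNormal_apply, MulAut.one_apply] at h4
  calc x * l = (l * x * l⁻¹) * l := by rw [h4]
    _ = l * x := by group

theorem isSolvable_range_of_minimal {H : Type*} [Group H] [Finite H] {n : ℕ} (hg : Good n)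
    (hn : Nat.card H ∣ n) {N : Subgroup H} [N.Normal] {p : ℕ} (hp : p.Prime) (hp2 : p ≠ 2)
    (hab : ∀ a ∈ N, ∀ b ∈ N, a * b = b * a) (hpow : ∀ a ∈ N, a ^ p = 1) :
    Group.IsSolvable (MulAut.conjNormal (H := N)).range := by
  have : Fact p.Prime := ⟨hp⟩
  letI : CommGroup N := { (inferInstance : Group N) with
    mul_comm := fun a b => Subtype.ext (hab a a.2 b b.2) }
  have hP : IsPGroup p N := fun a => ⟨1, by
    rw [pow_one]; exact Subtype.ext (hpow a a.2)⟩
  obtain ⟨k, hk⟩ := IsPGroup.iff_card.mp hP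
  obtain ⟨e⟩ := Lib.ElemAbGL.mulAut_equiv_GL (V := N) p k (fun x => Subtype.ext (hpow x x.2)) hk
  -- the order of the image
  set X := (MulAut.conjNormal (H := N)).range with hX
  have hXd : Nat.card N * Nat.card X ∣ n := by
    have h1 : N ≤ (MulAut.conjNormal (H := N)).ker := by
      intro a ha
      rw [MonoidHom.mem_ker]
      ext x
      simp only [MulAut.conjNormal_apply, MulAut.one_apply]
      rw [hab a ha x x.2]
      group
    have h2 : Nat.card X = (MulAut.conjNormal (H := N)).ker.index := by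
      rw [hX, Subgroup.index_ker]
    have h3 := Subgroup.card_mul_index (MulAut.conjNormal (H := N)).ker
    have h4 : Nat.card N ∣ Nat.card (MulAut.conjNormal (H := N)).ker :=
      Subgroup.card_dvd_of_le h1
    rw [h2]
    exact ((Nat.mul_dvd_mul_right h4 _).trans (dvd_of_eq h3)).trans hn
  have hXg : Nat.card X ∣ Nat.card (GL (Fin k) (ZMod p)) := by
    rw [← Nat.card_congr e.toEquiv]
    exact Subgroup.card_subgroup_dvd_card X
  by_cases hk2 : 2 ≤ k
  · have hpk : p ^ k ∣ n := hk ▸ (Dvd.intro _ rfl : Nat.card N ∣ _).trans hXd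
    obtain ⟨i, j, hij⟩ := hg p k hp hp2 hk2 hpk (Nat.card X) (hk ▸ hXd) hXg
    exact Cfsg.Agent.S0144.result 2 3 i j Nat.prime_two Nat.prime_three hij
  · -- `GL_k` is commutative for `k ≤ 1`
    have hcomm : ∀ a b : GL (Fin k) (ZMod p), a * b = b * a := by
      intro a b
      have hk' : k = 0 ∨ k = 1 := by omega
      rcases hk' with rfl | rfl
      · exact Subsingleton.elim _ _
      · apply Units.ext
        ext i j
        simp [Matrix.mul_apply, Subsingleton.elim i 0, Subsingleton.elim j 0, mul_comm]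
    have h1 : ∀ a b : X, a * b = b * a := by
      intro a b
      apply Subtype.ext
      apply e.injective
      rw [Subgroup.coe_mul, Subgroup.coe_mul, map_mul, map_mul, hcomm]
    letI : CommGroup X := { (inferInstance : Group X) with mul_comm := h1 }
    infer_instance

universe u

theorem card_map_mk_lt {H : Type*} [Group H] [Finite H] {N W : Subgroup H} [N.Normal] (hNW : N ≤ W)
    (hN : N ≠ ⊥) : Nat.card (W.map (QuotientGroup.mk' N)) < Nat.card W := by
  have h1 : N.relIndex W = Nat.card (W.map (QuotientGroup.mk' N)) := by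
    have := Subgroup.relIndex_ker (K := W) (QuotientGroup.mk' N)
    rwa [QuotientGroup.ker_mk'] at this
  have h2 := Subgroup.card_mul_index (N.subgroupOf W)
  have h3 : Nat.card (N.subgroupOf W) = Nat.card N :=
    Nat.card_congr (Subgroup.subgroupOfEquivOfLe hNW).toEquiv
  have h4 : (N.subgroupOf W).index = N.relIndex W := rfl
  rw [h3, h4, h1] at h2
  have h5 : 1 < Nat.card N := (Subgroup.one_lt_card_iff_ne_bot N).2 hN
  have h6 : 0 < Nat.card (W.map (QuotientGroup.mk' N)) := Nat.card_pos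
  rw [← h2]
  nlinarith only [h5, h6]

/-- A perfect subgroup of a group of good order centralises every solvable normal subgroup of odd
order. -/
theorem commutator_eq_bot_of_good {n : ℕ} (hg : Good n) (m : ℕ) :
    ∀ (H : Type u) [Group H] [Finite H], Nat.card H ∣ n → ∀ (L W : Subgroup H), ⁅L, L⁆ = L →
      W.Normal → Odd (Nat.card W) → Group.IsSolvable W → Nat.card W = m → ⁅L, W⁆ = ⊥ := by
  induction m using Nat.strong_induction_on with
  | _ m ih =>
    intro H _ _ hn L W hL hW hodd hsW hm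
    by_cases hne : W = ⊥
    · rw [hne, Subgroup.commutator_bot_right]
    obtain ⟨N, hN, hNW, hN1, hmin⟩ := Lib.SubnormalJoin.exists_minimal_normal_le W hW hne
    have hsN : Group.IsSolvable N :=
      Group.isSolvable_of_isSolvable_injective (f := Subgroup.inclusion hNW) (Subgroup.inclusion_injective hNW)
    obtain ⟨p, hp, hab, hpow⟩ := exists_prime_of_minimal hN hN1 hsN hmin
    have hp2 : p ≠ 2 := by
      rintro rfl
      obtain ⟨x, hx, hx1⟩ : ∃ x ∈ N, x ≠ 1 := by
        by_contra hcon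
        push Not at hcon
        exact hN1 ((Subgroup.eq_bot_iff_forall N).2 hcon)
      have h1 : orderOf x = 2 := orderOf_eq_prime (hpow x hx) hx1
      have h2 : 2 ∣ Nat.card W := by
        rw [← h1, ← Subgroup.orderOf_mk x (hNW hx)]
        exact _root_.orderOf_dvd_natCard _
      exact (Nat.not_even_iff_odd.2 hodd) (even_iff_two_dvd.2 h2)
    have hLN : ⁅L, N⁆ = ⊥ := commutator_eq_bot_of_solvable_action hL
      (isSolvable_range_of_minimal hg hn hp hp2 hab hpow)
    -- the quotient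
    have hq : ⁅L.map (QuotientGroup.mk' N), W.map (QuotientGroup.mk' N)⁆ = ⊥ := by
      refine ih _ (hm ▸ card_map_mk_lt hNW hN1) (H ⧸ N) ((Subgroup.card_quotient_dvd_card N).trans hn)
        _ _ ?_ ?_ ?_ ?_ rfl
      · rw [← Subgroup.map_commutator, hL]
      · exact hW.map _ (QuotientGroup.mk'_surjective N)
      · exact Odd.of_dvd_nat hodd (Subgroup.card_map_dvd _ _)
      · exact Group.isSolvable_of_surjective (f := (QuotientGroup.mk' N).subgroupMap W)
          ((QuotientGroup.mk' N).subgroupMap_surjective W)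
    have h1 : ⁅L, W⁆ ≤ N := by
      rw [← Subgroup.map_commutator, Subgroup.map_eq_bot_iff, QuotientGroup.ker_mk'] at hq
      exact hq
    have h2 : ⁅⁅L, W⁆, L⁆ = ⊥ := by
      rw [eq_bot_iff]
      calc ⁅⁅L, W⁆, L⁆ ≤ ⁅N, L⁆ := Subgroup.commutator_mono h1 le_rfl
        _ = ⁅L, N⁆ := Subgroup.commutator_comm _ _
        _ = ⊥ := hLN
        _ ≤ ⊥ := le_rfl
    have h3 := Subgroup.commutator_commutator_eq_bot_of_rotate (H₁ := L) (H₂ := L) (H₃ := W) h2
      (by rw [Subgroup.commutator_comm W L]; exact h2)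
    rwa [hL] at h3

end Cfsg.Agent.FixBN.SmallSB
end

-- part: FixBN/SmallNum
section
/-!
The orders `20160` and `2 ^ 10 * 3 ^ 3 * 5 ^ 2 * 7 ^ 2 * 17` are good.
-/

set_option autoImplicit false

namespace Cfsg.Agent.FixBN.SmallNum

open SmallSB

theorem exists_of_dvd {d a b : ℕ} (h : d ∣ 2 ^ a * 3 ^ b) : ∃ i j : ℕ, d = 2 ^ i * 3 ^ j := by
  obtain ⟨x, y, hx, hy, rfl⟩ := (Nat.dvd_mul).1 h
  obtain ⟨i, -, rfl⟩ := (Nat.dvd_prime_pow Nat.prime_two).1 hx
  obtain ⟨j, -, rfl⟩ := (Nat.dvd_prime_pow Nat.prime_three).1 hy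
  exact ⟨i, j, rfl⟩

theorem card_GL (p k : ℕ) (hp : p.Prime) :
    Nat.card (GL (Fin k) (ZMod p)) = ∏ i : Fin k, (p ^ k - p ^ (i : ℕ)) := by
  have : Fact p.Prime := ⟨hp⟩
  rw [Matrix.card_GL_field]
  simp only [ZMod.card]

/-- It is enough that the greatest common divisor divides `2 ^ a * 3 ^ b`. -/
theorem goodAt_of {n p k : ℕ} (hp : p.Prime) (a b c : ℕ) (hn : n = p ^ k * c)
    (hg : Nat.gcd c (∏ i : Fin k, (p ^ k - p ^ (i : ℕ))) ∣ 2 ^ a * 3 ^ b) : GoodAt n p k := by
  intro d h1 h2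
  rw [hn] at h1
  have h3 : d ∣ c := Nat.dvd_of_mul_dvd_mul_left (pow_pos hp.pos k) h1
  rw [card_GL p k hp] at h2
  exact exists_of_dvd ((Nat.dvd_gcd h3 h2).trans hg)

theorem pow_two_dvd {p k n : ℕ} (hk : 2 ≤ k) (h : p ^ k ∣ n) : p ^ 2 ∣ n := (pow_dvd_pow p hk).trans h

theorem good_20160 : Good 20160 := by
  intro p k hp hp2 hk h
  have h2 := pow_two_dvd hk h
  have h3 : p = 3 := by
    have h4 : p ∣ 2 ^ 6 * 3 ^ 2 * 5 * 7 := (dvd_pow_self p two_ne_zero).trans h2
    rcases hp.dvd_mul.1 h4 with h4 | h4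
    · rcases hp.dvd_mul.1 h4 with h4 | h4
      · rcases hp.dvd_mul.1 h4 with h4 | h4
        · exact absurd ((Nat.prime_dvd_prime_iff_eq hp Nat.prime_two).1 (hp.dvd_of_dvd_pow h4)) hp2
        · exact (Nat.prime_dvd_prime_iff_eq hp Nat.prime_three).1 (hp.dvd_of_dvd_pow h4)
      · have h5 := (Nat.prime_dvd_prime_iff_eq hp Nat.prime_five).1 h4
        subst h5
        norm_num at h2
    · have h5 := (Nat.prime_dvd_prime_iff_eq hp (by norm_num)).1 h4
      subst h5
      norm_num at h2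
  subst h3
  have hk2 : k = 2 := by
    have h5 : ¬ 3 ^ 3 ∣ 20160 := by norm_num
    by_contra hne
    exact h5 ((pow_dvd_pow 3 (by omega)).trans h)
  subst hk2
  exact goodAt_of Nat.prime_three 4 0 2240 (by norm_num) (by decide +kernel)

theorem good_he : Good 575769600 := by
  intro p k hp hp2 hk h
  have h2 := pow_two_dvd hk h
  have h4 : p ∣ 2 ^ 10 * 3 ^ 3 * 5 ^ 2 * 7 ^ 2 * 17 := (dvd_pow_self p two_ne_zero).trans h2
  rcases hp.dvd_mul.1 h4 with h4 | h4
  · rcases hp.dvd_mul.1 h4 with h4 | h4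
    · rcases hp.dvd_mul.1 h4 with h4 | h4
      · rcases hp.dvd_mul.1 h4 with h4 | h4
        · exact absurd ((Nat.prime_dvd_prime_iff_eq hp Nat.prime_two).1 (hp.dvd_of_dvd_pow h4)) hp2
        · have h5 := (Nat.prime_dvd_prime_iff_eq hp Nat.prime_three).1 (hp.dvd_of_dvd_pow h4)
          subst h5
          have hk2 : k = 2 ∨ k = 3 := by
            have h5 : ¬ 3 ^ 4 ∣ 575769600 := by norm_num
            by_contra hne
            exact h5 ((pow_dvd_pow 3 (by omega)).trans h)
          rcases hk2 with rfl | rfl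
          · exact goodAt_of Nat.prime_three 4 1 (575769600 / 9) (by norm_num) (by decide +kernel)
          · exact goodAt_of Nat.prime_three 5 0 (575769600 / 27) (by norm_num) (by decide +kernel)
      · have h5 := (Nat.prime_dvd_prime_iff_eq hp Nat.prime_five).1 (hp.dvd_of_dvd_pow h4)
        subst h5
        have hk2 : k = 2 := by
          have h5 : ¬ 5 ^ 3 ∣ 575769600 := by norm_num
          by_contra hne
          exact h5 ((pow_dvd_pow 5 (by omega)).trans h)
        subst hk2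
        exact goodAt_of Nat.prime_five 5 1 (575769600 / 25) (by norm_num) (by decide +kernel)
    · have h5 := (Nat.prime_dvd_prime_iff_eq hp (by norm_num)).1 (hp.dvd_of_dvd_pow h4)
      subst h5
      have hk2 : k = 2 := by
        have h5 : ¬ 7 ^ 3 ∣ 575769600 := by norm_num
        by_contra hne
        exact h5 ((pow_dvd_pow 7 (by omega)).trans h)
      subst hk2
      exact goodAt_of (by norm_num) 5 2 (575769600 / 49) (by norm_num) (by decide +kernel)
  · have h5 := (Nat.prime_dvd_prime_iff_eq hp (by norm_num)).1 h4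
    subst h5
    norm_num at h2

end Cfsg.Agent.FixBN.SmallNum
end

-- part: FixBN/GoodSB
section
/-!
# The soft B-property of groups of good order

A 2-component of a group whose order divides a good number centralises every normal subgroup of
odd order.
-/

set_option autoImplicit false

namespace Cfsg.Agent.FixBN.GoodSB

open Subgroup Cfsg Cfsg.Agent.FixBN.Reduce Cfsg.Agent.FixBN.SmallSB
open Cfsg.Agent.SignalizersComponents
open scoped commutatorElement

universe u

/-- A 2-component of a group whose order divides a good number centralises every normal subgroup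
of odd order. -/
theorem commutator_eq_bot {n : ℕ} (hg : Good n) {H : Type u} [Group H] [Finite H]
    (hd : Nat.card H ∣ n) {L W : Subgroup H} (hL : IsPComponent 2 L) (hW : W.Normal)
    (hodd : Odd (Nat.card W)) : ⁅L, W⁆ = ⊥ :=
  commutator_eq_bot_of_good hg (Nat.card W) H hd L W
    (isPerfect_iff.mp (PCompQuot.perfect_of_pComponent hL)) hW hodd
    (Cfsg.Agent.S0205.result hodd) rfl

/-- If the orders of all fixed point groups of automorphisms `τ ≠ 1` with `τ² = 1` of the simple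
group `K` divide a good number, then `SB K`. -/
theorem sb_of_good {n : ℕ} (hg : Good n) {K : Type u} [Group K] [Finite K]
    (h : ∀ τ : K ≃* K, (∀ x, τ (τ x) = x) → Nat.card ↥(fixSub τ) ∣ n) : SB K :=
  fun τ hτ _ hL _ hW hodd => commutator_eq_bot hg (h τ hτ) hL hW hodd

/-- The same when the identity automorphism is not covered and `K` is simple of even order. -/
theorem sb_of_good_simple {n : ℕ} (hg : Good n) {K : Type u} [Group K] [Finite K] [IsSimpleGroup K]
    (heven : Even (Nat.card K))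
    (h : ∀ τ : K ≃* K, (∀ x, τ (τ x) = x) → (∃ x, τ x ≠ x) → Nat.card ↥(fixSub τ) ∣ n) : SB K := by
  intro τ hτ L hL W hW hodd
  by_cases hx : ∃ x, τ x ≠ x
  · exact commutator_eq_bot hg (h τ hτ hx) hL hW hodd
  · push Not at hx
    have htop : fixSub τ = ⊤ := by
      rw [Subgroup.eq_top_iff']
      exact fun x => hx x
    have e : ↥(fixSub τ) ≃* K := (MulEquiv.subgroupCongr htop).trans Subgroup.topEquiv
    have hs : IsSimpleGroup ↥(fixSub τ) := by
      have : Nontrivial ↥(fixSub τ) := e.toEquiv.nontrivial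
      exact IsSimpleGroup.isSimpleGroup_of_surjective e.symm.toMonoidHom e.symm.surjective
    rcases hs.eq_bot_or_eq_top_of_normal W hW with h1 | h1
    · rw [h1, Subgroup.commutator_bot_right]
    · exfalso
      rw [h1, Nat.card_congr Subgroup.topEquiv.toEquiv, Nat.card_congr e.toEquiv] at hodd
      exact (Nat.not_even_iff_odd.2 hodd) heven

end Cfsg.Agent.FixBN.GoodSB
end

-- part: FixBN/HeSB
section
/-!
# The base case of the Held group of the B-theorem

An automorphism `τ ≠ 1` of the Held group with `τ² = 1` does not centralise a Sylow 7-subgroup. So the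
order of its fixed point group divides `|He| / 7`, which is a good number.
-/

set_option autoImplicit false

namespace Cfsg.Agent.FixBN.HeSB

open Subgroup Cfsg Cfsg.Agent.FixBN.Reduce Cfsg.Agent.FixBN.SmallNum Cfsg.Agent.FixBN.GoodSB
open Cfsg.Agent.FixBN.HeStab Cfsg.Agent.FixBN.HeCent

/-- An element of odd order inverted and fixed by an automorphism is trivial. -/
theorem eq_one_of_pow {G : Type*} [Group G] {c : G} (h7 : c ^ 7 = 1) (h2 : c * c = 1) : c = 1 := by
  have h : c ^ 7 = (c * c) ^ 3 * c := by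
    rw [← pow_two, ← pow_mul, ← pow_succ]
  rw [h2, one_pow, one_mul] at h
  rw [← h, h7]

section core

variable (σ : Spor.He ≃* Spor.He) (hσ : ∀ x, σ (σ x) = x) (h1 : σ P₁ = P₁) (h2 : σ P₂ = P₂)
  (h3 : σ Z = Z)

include hσ h2 h3 in
/-- An element conjugating `P₂` and `Z` to fixed elements is fixed. -/
theorem fixed_of_conj {x a b : Spor.He} (ha : σ a = a) (hb : σ b = b) (hxa : x * P₂ = a * x)
    (hxb : x * Z = b * x) : σ x = x := by
  obtain ⟨c, hsx⟩ : ∃ c, σ x = x * c := ⟨x⁻¹ * σ x, by rw [mul_inv_cancel_left]⟩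
  have c2 : c * P₂ = P₂ * c := by
    have e1 := congrArg σ hxa
    rw [map_mul, map_mul, h2, ha, hsx] at e1
    have e2 : x * (c * P₂) = x * (P₂ * c) := by
      rw [← mul_assoc, ← mul_assoc, e1, hxa, mul_assoc]
    exact mul_left_cancel e2
  have c3 : c * Z = Z * c := by
    have e1 := congrArg σ hxb
    rw [map_mul, map_mul, h3, hb, hsx] at e1
    have e2 : x * (c * Z) = x * (Z * c) := by
      rw [← mul_assoc, ← mul_assoc, e1, hxb, mul_assoc]
    exact mul_left_cancel e2
  obtain ⟨i, j, hij⟩ := eq_el_of_comm c2 c3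
  have hcf : σ c = c := by
    rw [hij]
    unfold el
    rw [map_mul, map_pow, map_pow, h2, h3]
  have hcc : c * c = 1 := by
    have e1 := hσ x
    rw [hsx, map_mul, hcf, hsx, mul_assoc] at e1
    exact mul_eq_left.mp e1
  have h7 : c ^ 7 = 1 := by rw [hij]; exact el_pow i j
  rw [hsx, eq_one_of_pow h7 hcc, mul_one]

include hσ h1 h2 h3 in
/-- An automorphism `σ` with `σ² = 1` fixing `P₁, P₂, Z` is trivial. -/
theorem eq_id (x : Spor.He) : σ x = x := by
  have hf : ∀ {y : Spor.He}, y ∈ fixSub σ ↔ σ y = y := Iff.rfl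
  have m1 : P₁ ∈ fixSub σ := h1
  have m2 : P₂ ∈ fixSub σ := h2
  have m3 : Z ∈ fixSub σ := h3
  have m4 : H ∈ fixSub σ := fixed_of_conj σ hσ h2 h3 m3
    ((fixSub σ).mul_mem ((fixSub σ).pow_mem m2 6) ((fixSub σ).pow_mem m3 3)) H_P₂ H_Z
  have m5 : N ∈ fixSub σ := fixed_of_conj σ hσ h2 h3 m3
    ((fixSub σ).mul_mem ((fixSub σ).pow_mem m1 5) m2) N_P₂ N_Z
  have ht := eq_top_of_mem m1 m2 m3 m4 m5
  have hx : x ∈ fixSub σ := by rw [ht]; trivial
  exact hx

end core

/-! ### the Sylow 7-subgroup -/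

/-- the Sylow 7-subgroup -/
def P : Subgroup Spor.He := zpowers P₁ ⊔ (zpowers P₂ ⊔ zpowers Z)

theorem isPGroup_zpowers {x : Spor.He} (hx : x ^ 7 = 1) : IsPGroup 7 (zpowers x) := by
  rintro ⟨y, hy⟩
  obtain ⟨k, rfl⟩ := mem_zpowers_iff.mp hy
  refine ⟨1, Subtype.ext ?_⟩
  show (x ^ k) ^ (7 ^ 1) = 1
  rw [pow_one, ← zpow_natCast, ← zpow_mul, mul_comm, zpow_mul, zpow_natCast, hx, one_zpow]

theorem mem_normalizer_of_conj {K : Subgroup Spor.He} {x : Spor.He}
    (h : K ≤ K.comap (MulAut.conj x).toMonoidHom) : x ∈ normalizer (K : Set Spor.He) :=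
  mem_normalizer_fintype fun _ hn => h hn

theorem isPGroup_P : IsPGroup 7 P := by
  have hE : IsPGroup 7 ↥(zpowers P₂ ⊔ zpowers Z) := by
    apply IsPGroup.to_sup_of_normal_right' (isPGroup_zpowers P₂_pow) (isPGroup_zpowers Z_pow)
    rw [zpowers_le]
    apply mem_normalizer_of_conj
    rw [zpowers_le, mem_comap]
    have e : (MulAut.conj P₂).toMonoidHom Z = Z := by
      show P₂ * Z * P₂⁻¹ = Z
      rw [comm_P₂_Z, mul_inv_cancel_right]
    rw [e]
    exact mem_zpowers Z
  apply IsPGroup.to_sup_of_normal_right' (isPGroup_zpowers P₁_pow) hE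
  rw [zpowers_le, ← inv_mem_iff]
  apply mem_normalizer_of_conj
  rw [sup_le_iff, zpowers_le, zpowers_le, mem_comap, mem_comap]
  have m2 : P₂ ∈ zpowers P₂ ⊔ zpowers Z := mem_sup_left (mem_zpowers _)
  have m3 : Z ∈ zpowers P₂ ⊔ zpowers Z := mem_sup_right (mem_zpowers _)
  constructor
  · have e : (MulAut.conj P₁⁻¹).toMonoidHom P₂ = P₂ * Z := by
      show P₁⁻¹ * P₂ * P₁⁻¹⁻¹ = P₂ * Z
      rw [inv_inv, mul_assoc, P₂_P₁, inv_mul_cancel_left]
    rw [e]
    exact mul_mem m2 m3
  · have e : (MulAut.conj P₁⁻¹).toMonoidHom Z = Z := by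
      show P₁⁻¹ * Z * P₁⁻¹⁻¹ = Z
      rw [inv_inv, mul_assoc, ← comm_P₁_Z, inv_mul_cancel_left]
    rw [e]
    exact m3

theorem factorization_seven : (Nat.card Spor.He).factorization 7 = 3 := by
  have h7 : Nat.Prime 7 := by norm_num
  rw [card_he, show 4030387200 = 7 ^ 3 * 11750400 by norm_num,
    Nat.factorization_mul (by norm_num) (by norm_num), h7.factorization_pow, Finsupp.add_apply,
    Finsupp.single_eq_same, Nat.factorization_eq_zero_of_not_dvd (by norm_num)]

/-- An automorphism `τ ≠ 1` with `τ² = 1` does not centralise a Sylow 7-subgroup. -/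
theorem not_dvd (τ : Spor.He ≃* Spor.He) (hτ : ∀ x, τ (τ x) = x) (hne : ∃ x, τ x ≠ x) :
    ¬ 343 ∣ Nat.card ↥(fixSub τ) := by
  intro hd
  have : Fact (Nat.Prime 7) := ⟨by norm_num⟩
  obtain ⟨K, hK⟩ := Sylow.exists_subgroup_card_pow_prime (G := ↥(fixSub τ)) 7 (n := 3) hd
  have hQ : Nat.card (K.map (fixSub τ).subtype) = 7 ^ (Nat.card Spor.He).factorization 7 := by
    rw [factorization_seven, ← hK]
    exact Nat.card_congr (K.equivMapOfInjective _ (fixSub τ).subtype_injective).toEquiv.symm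
  obtain ⟨T, hT⟩ := isPGroup_P.exists_le_sylow
  obtain ⟨g, hg⟩ := MulAction.exists_smul_eq Spor.He (Sylow.ofCard (K.map (fixSub τ).subtype) hQ) T
  have hfix : ∀ p ∈ P, τ (g⁻¹ * p * g) = g⁻¹ * p * g := by
    intro p hp
    have h1 : p ∈ (T : Subgroup Spor.He) := hT hp
    rw [← hg, Sylow.coe_subgroup_smul, Sylow.coe_ofCard,
      Subgroup.mem_pointwise_smul_iff_inv_smul_mem] at h1
    obtain ⟨y, -, hy⟩ := h1
    have h2 : g⁻¹ * p * g = (y : Spor.He) := by
      have h3 : (MulAut.conj g)⁻¹ • p = g⁻¹ * p * g := by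
        rw [← map_inv]
        show g⁻¹ * p * g⁻¹⁻¹ = g⁻¹ * p * g
        rw [inv_inv]
      rw [← h3]
      exact hy.symm
    rw [h2]
    exact y.2
  let σ : Spor.He ≃* Spor.He := ((MulAut.conj g⁻¹).trans τ).trans (MulAut.conj g)
  have hσa : ∀ x, σ x = g * τ (g⁻¹ * x * g) * g⁻¹ := by
    intro x
    show g * τ (g⁻¹ * x * g⁻¹⁻¹) * g⁻¹ = g * τ (g⁻¹ * x * g) * g⁻¹
    rw [inv_inv]
  have hσ : ∀ x, σ (σ x) = x := by
    intro x
    rw [hσa, hσa]
    have e : g⁻¹ * (g * τ (g⁻¹ * x * g) * g⁻¹) * g = τ (g⁻¹ * x * g) := by group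
    rw [e, hτ]
    group
  have hσf : ∀ p ∈ P, σ p = p := by
    intro p hp
    rw [hσa, hfix p hp]
    group
  have hall := eq_id σ hσ (hσf _ (mem_sup_left (mem_zpowers _)))
    (hσf _ (mem_sup_right (mem_sup_left (mem_zpowers _))))
    (hσf _ (mem_sup_right (mem_sup_right (mem_zpowers _))))
  obtain ⟨x, hx⟩ := hne
  apply hx
  have h1 := hall (g * x * g⁻¹)
  rw [hσa] at h1
  have e : g⁻¹ * (g * x * g⁻¹) * g = x := by group
  rw [e] at h1
  exact mul_left_cancel (mul_right_cancel h1)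

theorem dvd_of_not_dvd {d : ℕ} (hd : d ∣ 4030387200) (h : ¬ 343 ∣ d) : d ∣ 575769600 := by
  have h0 : d ≠ 0 := by
    rintro rfl
    exact absurd (zero_dvd_iff.mp hd) (by norm_num)
  have h7 : Nat.Prime 7 := by norm_num
  obtain ⟨k, e, he, hde⟩ := Nat.exists_eq_pow_mul_and_not_dvd h0 7 (by norm_num)
  have hk : k ≤ 2 := by
    by_contra hk
    exact h (hde ▸ Dvd.dvd.mul_right ((show 343 = 7 ^ 3 by norm_num) ▸ pow_dvd_pow 7 (by omega)) e)
  have hcop : Nat.Coprime e (7 ^ 3) := ((Nat.Prime.coprime_iff_not_dvd h7).mpr he).symm.pow_right 3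
  have h1 : e ∣ 7 ^ 3 * 11750400 := (Dvd.intro_left (7 ^ k) hde.symm).trans (by exact hd)
  have h2 : e ∣ 11750400 := hcop.dvd_of_dvd_mul_left h1
  rw [hde, show 575769600 = 7 ^ 2 * 11750400 by norm_num]
  exact Nat.mul_dvd_mul (pow_dvd_pow 7 hk) h2

/-- **The Held group has the soft B-property.** -/
theorem sb_he : SB Spor.He := by
  have hs : IsSimpleGroup Spor.He := Cfsg.Agent.S1695.result.1
  refine sb_of_good_simple good_he (by rw [card_he]; decide) fun τ hτ hne => ?_
  apply dvd_of_not_dvd _ (not_dvd τ hτ hne)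
  rw [← card_he]
  exact Subgroup.card_subgroup_dvd_card _

end Cfsg.Agent.FixBN.HeSB
end
end

-- part: KFacts/He/InvolAut
section
set_option linter.all false
open scoped Cfsg.Agent.FastGrp

/-!
# (HE1): every automorphism `α` of the Held group with `α² = 1` fixes a 2A involution (helper579)

* `pair_conj`: commuting `e ∈ R1`, `f ∈ R2` outside the centre: `e f` is conjugate in `CC` to `x01 x24`;
* `exists_fix_CC`: an automorphism `b` of `CC`, `b² = 1`, mapping `R1` to `R2`, fixes a conjugate of `x01 x24`;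
* `fix_of_hyp`: the same for outer automorphisms of a simple group with `Hyp z ι`;
* `fix_v`, `fix_a`: `Spor.He`; `fix_of_iso`.
-/

set_option autoImplicit false

namespace Cfsg.Agent.KFacts.He.InvolAut

open Matrix Cfsg.Agent.SporadicRecognition.HeldModel Cfsg.Agent.Held.AffineIso
  Cfsg.Agent.KFacts.TwoSix.Base Cfsg.Agent.KFacts.TwoSix.Facts Cfsg.Agent.KFacts.TwoSix.Normal
  Cfsg.Agent.KFacts.TwoSix.Aut Cfsg.Agent.KFacts.TwoSix.U

theorem x01_eq : x 0 1 = ro (Pi.single 0 1) := by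
  apply ext_CC (x_mem _ (by decide) (by decide)) (ro_mem _)
  · rw [top_ro]
    funext j
    rw [top_apply, coe_x, transvection_apply', Pi.single_apply]
    revert j; decide
  · rw [low_ro]
    ext i j
    rw [low_apply, coe_x, transvection_apply', Matrix.one_apply]
    revert i j; decide

theorem x02_eq : x 0 2 = ro (Pi.single 1 1) := by
  apply ext_CC (x_mem _ (by decide) (by decide)) (ro_mem _)
  · rw [top_ro]
    funext j
    rw [top_apply, coe_x, transvection_apply', Pi.single_apply]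
    revert j; decide
  · rw [low_ro]
    ext i j
    rw [low_apply, coe_x, transvection_apply', Matrix.one_apply]
    revert i j; decide

theorem cases_phi : ∀ φ : F4, φ 2 = 0 → φ ≠ 0 → φ ≠ Pi.single 3 1 →
    φ = Pi.single 1 1 ∨ φ = Pi.single 1 1 + Pi.single 3 1 ∨ φ = Pi.single 0 1 ∨
    φ = Pi.single 0 1 + Pi.single 3 1 ∨ φ = Pi.single 0 1 + Pi.single 1 1 ∨
    φ = Pi.single 0 1 + Pi.single 1 1 + Pi.single 3 1 := by
  decide +kernel

theorem tau_x' (i j k l : Fin 5) (h : i ≠ j) (hk : k = j.rev) (hl : l = i.rev) :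
    ∃ h' : k ≠ l, tau (x i j h) = x k l h' := by
  subst hk hl
  exact ⟨fun e => h (Fin.rev_injective e).symm, tau_x i j h⟩

theorem tau_s0 : tau (ro (Pi.single 0 1)) = x 3 4 := by rw [← x01_eq]; exact (tau_x' 0 1 3 4 _ rfl rfl).2
theorem tau_s1 : tau (ro (Pi.single 1 1)) = x 2 4 := by rw [← x02_eq]; exact (tau_x' 0 2 2 4 _ rfl rfl).2
theorem tau_s3 : tau (ro (Pi.single 3 1)) = x 0 4 := by rw [← zz_eq, tau_zz]; rfl

theorem comm_of_eq {G : Type*} [Group G] {p a b : G} (h : p * a = b * p) : p * a * p⁻¹ = b := by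
  rw [h, mul_inv_cancel_right]

/-- **commuting `e ∈ R1`, `f ∈ R2` outside the centre: `e f` is conjugate to `x01 x24`** -/
theorem pair_conj {e f : L5} (he : e ∈ R1) (he1 : e ≠ 1) (hez : e ≠ zz) (hf : f ∈ R2) (hf1 : f ≠ 1)
    (hfz : f ≠ zz) (hc : e * f = f * e) : ∃ p ∈ CC, p * (e * f) * p⁻¹ = x 0 1 * x 2 4 := by
  have h01 : x 0 1 ∈ R1 := by rw [x01_eq]; exact ro_mem_R1 _
  have h01' : x 0 1 ≠ 1 := by
    intro h; have := congrArg cd h; rw [cd_x, cd_one] at this; revert this; decide +kernel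
  have h01z : x 0 1 ≠ zz := by
    intro h; have := congrArg cd h; rw [zz, cd_x, cd_x] at this; revert this; decide +kernel
  obtain ⟨p, hp, hpe⟩ := trans_R1 he he1 hez h01 h01' h01z
  -- `f₁ = p f p⁻¹`
  have hf1' : p * f * p⁻¹ ∈ R2 := norm_R2 hp hf
  obtain ⟨φ, hφ⟩ := mem_R1_low'.1 (tau_mem_R1 hf1')
  have hfφ : p * f * p⁻¹ = tau (ro φ) := by rw [← hφ, tau_tau]
  have hcc : x 0 1 * tau (ro φ) = tau (ro φ) * x 0 1 := by
    rw [← hfφ, ← hpe]
    calc p * e * p⁻¹ * (p * f * p⁻¹) = p * (e * f) * p⁻¹ := by group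
      _ = p * (f * e) * p⁻¹ := by rw [hc]
      _ = _ := by group
  have h34 : x 3 4 ∈ CC := x_mem _ (by decide) (by decide)
  have hcc' : x 3 4 * ro φ = ro φ * x 3 4 := by
    have h1 := congrArg tau hcc
    rw [map_mul, map_mul, tau_tau, (tau_x' 0 1 3 4 _ rfl rfl).2] at h1
    exact h1
  have h2 : φ 2 = 0 := by
    have h3 := congrFun (congrArg top hcc') 3
    rw [top_mul h34 (ro_mem _), top_mul (ro_mem _) h34, top_ro, low_ro, Matrix.vecMul_one] at h3
    have h4 : ∀ j : Fin 4, low (x 3 4) j 3 = if j = 2 ∨ j = 3 then 1 else 0 := by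
      intro j
      rw [low_apply, coe_x, transvection_apply']
      revert j; decide
    have h5 : (φ ᵥ* low (x 3 4)) 3 = φ 2 + φ 3 := by
      rw [Matrix.vecMul, dotProduct, Fin.sum_univ_four, h4, h4, h4, h4]
      simp
    rw [Pi.add_apply, Pi.add_apply, h5, add_comm] at h3
    have h6 := add_left_cancel h3
    exact (add_eq_right.1 h6.symm)
  have h0 : φ ≠ 0 := by
    rintro rfl
    rw [ro_zero, map_one] at hfφ
    apply hf1
    calc f = p⁻¹ * (p * f * p⁻¹) * p := by group
      _ = 1 := by rw [hfφ]; group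
  have h3 : φ ≠ Pi.single 3 1 := by
    rintro rfl
    rw [← zz_eq, tau_zz] at hfφ
    apply hfz
    calc f = p⁻¹ * (p * f * p⁻¹) * p := by group
      _ = p⁻¹ * (zz * p) := by rw [hfφ]; group
      _ = zz := by rw [← zz_comm hp]; group
  have key : ∃ q ∈ CC, q * (x 0 1 * tau (ro φ)) * q⁻¹ = x 0 1 * x 2 4 := by
    have m02 : x 0 2 ∈ CC := x_mem _ (by decide) (by decide)
    have m03 : x 0 3 ∈ CC := x_mem _ (by decide) (by decide)
    have m23 : x 2 3 ∈ CC := x_mem _ (by decide) (by decide)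
    have m32 : x 3 2 ∈ CC := x_mem _ (by decide) (by decide)
    rcases cases_phi φ h2 h0 h3 with rfl | rfl | rfl | rfl | rfl | rfl
    · exact ⟨1, one_mem _, by rw [tau_s1]; group⟩
    · refine ⟨x 0 2, m02, comm_of_eq ?_⟩
      rw [ro_add, map_mul, tau_s1, tau_s3]
      apply cd_inj
      simp only [cd_mul, cd_x]
      decide +kernel
    · refine ⟨x 2 3 * x 3 2 * x 2 3, mul_mem (mul_mem m23 m32) m23, comm_of_eq ?_⟩
      rw [tau_s0]
      apply cd_inj
      simp only [cd_mul, cd_x]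
      decide +kernel
    · refine ⟨x 2 3 * x 3 2 * x 2 3 * x 0 3, mul_mem (mul_mem (mul_mem m23 m32) m23) m03, comm_of_eq ?_⟩
      rw [ro_add, map_mul, tau_s0, tau_s3]
      apply cd_inj
      simp only [cd_mul, cd_x]
      decide +kernel
    · refine ⟨x 3 2, m32, comm_of_eq ?_⟩
      rw [ro_add, map_mul, tau_s0, tau_s1]
      apply cd_inj
      simp only [cd_mul, cd_x]
      decide +kernel
    · refine ⟨x 3 2 * x 0 2, mul_mem m32 m02, comm_of_eq ?_⟩
      rw [ro_add, ro_add, map_mul, map_mul, tau_s0, tau_s1, tau_s3]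
      apply cd_inj
      simp only [cd_mul, cd_x]
      decide +kernel
  obtain ⟨q, hq, hqe⟩ := key
  refine ⟨q * p, mul_mem hq hp, ?_⟩
  rw [← hqe, ← hfφ, ← hpe]
  group

/-- `x01 x24` in `CC` -/
def vC : CC := ⟨x 0 1 * x 2 4, mul_mem (x_mem _ (by decide) (by decide)) (x_mem _ (by decide) (by decide))⟩

/-- **an automorphism `b` of `CC`, `b² = 1`, mapping `R1` to `R2`, fixes a conjugate of `x01 x24`** -/
theorem exists_fix_CC (b : CC ≃* CC) (hb : ∀ u, b (b u) = u)
    (h : ∀ e : CC, (e : L5) ∈ R1 → ((b e : CC) : L5) ∈ R2) : ∃ p : CC, b (p * vC * p⁻¹) = p * vC * p⁻¹ := by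
  -- commuting `e`, `b e`
  have key : ∀ e : CC, (e : L5) ∈ R1 → e ≠ 1 → e ≠ zC → e * b e = b e * e →
      ∃ p : CC, b (p * vC * p⁻¹) = p * vC * p⁻¹ := by
    intro e he h1 hz hc
    obtain ⟨p, hp, hpe⟩ := pair_conj he (fun e' => h1 (Subtype.ext e')) (fun e' => hz (Subtype.ext e')) (h e he)
      (fun e' => h1 (b.injective (by rw [map_one]; exact Subtype.ext e')))
      (fun e' => hz (b.injective (by rw [aut_zC]; exact Subtype.ext e')))
      (congrArg Subtype.val hc)
    have hpe' : (⟨p, hp⟩ : CC) * (e * b e) * (⟨p, hp⟩ : CC)⁻¹ = vC := Subtype.ext hpe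
    refine ⟨(⟨p, hp⟩ : CC)⁻¹, ?_⟩
    have h2 : (⟨p, hp⟩ : CC)⁻¹ * vC * ((⟨p, hp⟩ : CC)⁻¹)⁻¹ = e * b e := by
      rw [← hpe']; group
    rw [h2, map_mul, hb, hc]
  have hzz : zC * zC = 1 := Subtype.ext zz_sq
  have hzc : ∀ g : CC, g * zC = zC * g := fun g => Subtype.ext (zz_comm g.2)
  -- the pairing
  have pr : ∀ e f : CC, (e : L5) ∈ R1 → (f : L5) ∈ R1 → e * b f = b f * e ∨ e * b f = zC * (b f * e) := by
    intro e f he hf
    rcases pair he (R2_le_QQ (h f hf)) with h1 | h1
    · left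
      have h2 : e * b f * e⁻¹ * (b f)⁻¹ = 1 := Subtype.ext h1
      calc e * b f = e * b f * e⁻¹ * (b f)⁻¹ * (b f * e) := by group
        _ = b f * e := by rw [h2, one_mul]
    · right
      have h2 : e * b f * e⁻¹ * (b f)⁻¹ = zC := Subtype.ext h1
      calc e * b f = e * b f * e⁻¹ * (b f)⁻¹ * (b f * e) := by group
        _ = zC * (b f * e) := by rw [h2]
  have r0 : ((rC (Pi.single 0 1) : CC) : L5) ∈ R1 := ro_mem_R1 _
  have r1 : ((rC (Pi.single 1 1) : CC) : L5) ∈ R1 := ro_mem_R1 _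
  have r2 : ((rC (Pi.single 0 1 + Pi.single 1 1) : CC) : L5) ∈ R1 := ro_mem_R1 _
  have n0 : ∀ f : F4, f ≠ 0 → rC f ≠ 1 := by
    intro f hf e
    apply hf
    apply rC_inj
    rw [e]
    exact Subtype.ext ro_zero.symm
  have n3 : ∀ f : F4, f ≠ Pi.single 3 1 → rC f ≠ zC := by
    intro f hf e
    rw [zC_eq] at e
    exact hf (rC_inj e)
  rcases pr _ _ r0 r0 with c0 | c0
  · exact key _ r0 (n0 _ (by decide)) (n3 _ (by decide)) c0
  rcases pr _ _ r1 r1 with c1 | c1
  · exact key _ r1 (n0 _ (by decide)) (n3 _ (by decide)) c1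
  refine key _ r2 (n0 _ (by decide)) (n3 _ (by decide)) ?_
  rw [rC_add]
  set e := rC (Pi.single 0 1) with he
  set f := rC (Pi.single 1 1) with hf
  rw [map_mul]
  rcases pr _ _ r0 r1 with c2 | c2
  · have c3 : f * b e = b e * f := by
      have h1 := congrArg b c2
      rw [map_mul, map_mul, hb] at h1
      exact h1.symm
    calc e * f * (b e * b f) = e * (f * b e) * b f := by group
      _ = e * b e * (f * b f) := by rw [c3]; group
      _ = zC * (b e * e) * (zC * (b f * f)) := by rw [c0, c1]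
      _ = zC * (b e * e * zC) * (b f * f) := by group
      _ = zC * zC * b e * (e * b f) * f := by rw [hzc (b e * e)]; group
      _ = b e * b f * (e * f) := by rw [c2, hzz]; group
  · have c3 : f * b e = zC * (b e * f) := by
      have h1 := congrArg b c2
      rw [map_mul, map_mul, map_mul, hb, aut_zC] at h1
      rw [h1, ← mul_assoc, hzz, one_mul]
    calc e * f * (b e * b f) = e * (f * b e) * b f := by group
      _ = e * zC * (b e * f) * b f := by rw [c3]; group
      _ = zC * (e * b e) * (f * b f) := by rw [hzc e]; group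
      _ = zC * (zC * (b e * e)) * (zC * (b f * f)) := by rw [c0, c1]
      _ = zC * zC * (b e * e * zC) * (b f * f) := by group
      _ = zC * b e * (e * b f) * f := by rw [hzc (b e * e), hzz]; group
      _ = zC * (b e * zC) * b f * (e * f) := by rw [c2]; group
      _ = zC * zC * b e * b f * (e * f) := by rw [hzc (b e)]; group
      _ = b e * b f * (e * f) := by rw [hzz]; group

section Hyp

open Cfsg.Agent.OddHalf.UT5.KBasic

variable {G : Type*} [Group G] {z : G} {ι : CC →* G}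

/-- an outer automorphism of order 2 fixing `z` fixes a conjugate of `ι vC` -/
theorem fix_of_fix [Finite G] [IsSimpleGroup G] (h : SporadicRecognition.HeldModel.Hyp z ι) (α : MulAut G)
    (h2 : ∀ x, α (α x) = x) (hz : α z = z) (ho : α ∉ (MulAut.conj : G →* MulAut G).range) :
    ∃ g : G, α (g * ι vC * g⁻¹) = g * ι vC * g⁻¹ := by
  obtain ⟨b, hb⟩ := exists_b h α hz
  have hbb : ∀ u, b (b u) = u := fun u => h.inj (by rw [hb, hb, h2])
  rcases aut_cases b with h1 | h1
  · exfalso
    obtain ⟨p, hp⟩ := aut_inner b h1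
    exact ho (inner_of h (c := p) fun u => by rw [← hb, hp, map_mul, map_mul, map_inv])
  · obtain ⟨p, hp⟩ := exists_fix_CC b hbb h1
    refine ⟨ι p, ?_⟩
    have h3 := hb (p * vC * p⁻¹)
    rw [hp, map_mul, map_mul, map_inv] at h3
    exact h3.symm

/-- an automorphism of order 2 fixes a conjugate of `z` -/
theorem exists_fix_z [Finite G] [IsSimpleGroup G] (h : SporadicRecognition.HeldModel.Hyp z ι) (α : MulAut G)
    (h2 : α * α = 1) : ∃ g : G, α (g * z * g⁻¹) = g * z * g⁻¹ := by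
  have : Fact (Nat.Prime 2) := ⟨Nat.prime_two⟩
  have hP : IsPGroup 2 ↥(Subgroup.zpowers α) := by
    have : Nat.card ↥(Subgroup.zpowers α) ∣ 2 := by
      rw [Nat.card_zpowers]
      exact orderOf_dvd_of_pow_eq_one (by rw [pow_two, h2])
    rcases (Nat.dvd_prime Nat.prime_two).1 this with e | e
    · exact IsPGroup.of_card (n := 0) (by rw [e]; rfl)
    · exact IsPGroup.of_card (n := 1) (by rw [e]; rfl)
  obtain ⟨S, hS⟩ := hP.nonempty_fixed_point_of_prime_not_dvd_card (Sylow 2 G) (not_dvd_card_sylow 2 G)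
  obtain ⟨T, hT⟩ := exists_sylow h
  obtain ⟨g, hg⟩ := MulAction.exists_smul_eq G T S
  have hαS : ∀ x ∈ (S : Subgroup G), α x ∈ (S : Subgroup G) := by
    intro x hx
    have h1 := hS ⟨α, Subgroup.mem_zpowers α⟩
    have h3 : (⟨α, Subgroup.mem_zpowers α⟩ : ↥(Subgroup.zpowers α)) • x ∈
        (((⟨α, Subgroup.mem_zpowers α⟩ : ↥(Subgroup.zpowers α)) • S : Sylow 2 G) : Subgroup G) :=
      Subgroup.smul_mem_pointwise_smul _ _ _ hx
    rw [h1] at h3
    exact h3
  have hmem : ∀ x, x ∈ (S : Subgroup G) ↔ g⁻¹ * x * g ∈ (T : Subgroup G) := by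
    intro x
    rw [← hg, Sylow.coe_subgroup_smul, Subgroup.mem_pointwise_smul_iff_inv_smul_mem]
    have e : (MulAut.conj g)⁻¹ • x = g⁻¹ * x * g := by
      rw [← map_inv, MulAut.smul_def, MulAut.conj_apply, inv_inv]
    rw [e]
  have hzT : z ∈ (T : Subgroup G) := by
    rw [hT]; exact ⟨zC, x_mem_T0 (by decide), h.map_zz⟩
  have hzS : g * z * g⁻¹ ∈ (S : Subgroup G) := by
    rw [hmem]
    have e : g⁻¹ * (g * z * g⁻¹) * g = z := by group
    rwa [e]
  have hTz : ∀ t ∈ (T : Subgroup G), t * z = z * t := by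
    intro t ht
    rw [hT] at ht
    obtain ⟨u, -, rfl⟩ := ht
    exact comm_z h u
  have hSz : ∀ s ∈ (S : Subgroup G), s * (g * z * g⁻¹) = g * z * g⁻¹ * s := by
    intro s hs
    have h3 := hTz _ ((hmem s).1 hs)
    calc s * (g * z * g⁻¹) = g * (g⁻¹ * s * g * z) * g⁻¹ := by group
      _ = g * (z * (g⁻¹ * s * g)) * g⁻¹ := by rw [h3]
      _ = g * z * g⁻¹ * s := by group
  refine ⟨g, ?_⟩
  set w := α (g * z * g⁻¹) with hw
  have hwS : w ∈ (S : Subgroup G) := hαS _ hzS
  have hαα : ∀ x, α (α x) = x := fun x => by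
    rw [← MulAut.mul_apply, h2]; rfl
  have hwc : ∀ s ∈ (S : Subgroup G), s * w = w * s := by
    intro s hs
    have h3 := congrArg α (hSz _ (hαS s hs))
    rw [map_mul, map_mul α (g * z * g⁻¹), hαα] at h3
    exact h3
  have h3 : g⁻¹ * w * g = 1 ∨ g⁻¹ * w * g = z := by
    refine center_T0 h (hTz _ ((hmem w).1 hwS)) ?_
    intro u hu
    have h4 : ι u ∈ (T : Subgroup G) := by rw [hT]; exact ⟨u, hu, rfl⟩
    have h5 : g * ι u * g⁻¹ ∈ (S : Subgroup G) := by
      rw [hmem]
      have e : g⁻¹ * (g * ι u * g⁻¹) * g = ι u := by group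
      rwa [e]
    have h6 := hwc _ h5
    calc ι u * (g⁻¹ * w * g) = g⁻¹ * (g * ι u * g⁻¹ * w) * g := by group
      _ = g⁻¹ * (w * (g * ι u * g⁻¹)) * g := by rw [h6]
      _ = g⁻¹ * w * g * ι u := by group
  rcases h3 with e | e
  · exfalso
    have h4 : w = 1 := by
      calc w = g * (g⁻¹ * w * g) * g⁻¹ := by group
        _ = 1 := by rw [e]; group
    rw [hw] at h4
    have h5 : g * z * g⁻¹ = 1 := α.injective (by rw [h4, map_one])
    apply Held.Pattern.z_ne_one h
    calc z = g⁻¹ * (g * z * g⁻¹) * g := by group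
      _ = 1 := by rw [h5]; group
  · calc w = g * (g⁻¹ * w * g) * g⁻¹ := by group
      _ = g * z * g⁻¹ := by rw [e]

/-- an outer automorphism of order 2 fixes a conjugate of `ι vC` -/
theorem fix_of_hyp [Finite G] [IsSimpleGroup G] (h : SporadicRecognition.HeldModel.Hyp z ι) (α : MulAut G)
    (h2 : α * α = 1) (ho : α ∉ (MulAut.conj : G →* MulAut G).range) :
    ∃ g : G, α (g * ι vC * g⁻¹) = g * ι vC * g⁻¹ := by
  obtain ⟨k, hk⟩ := exists_fix_z h α h2
  have hαα : ∀ x, α (α x) = x := fun x => by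
    rw [← MulAut.mul_apply, h2]; rfl
  have e1 : ∀ x, ((MulAut.conj k)⁻¹ * α * MulAut.conj k) x = k⁻¹ * α (k * x * k⁻¹) * k := by
    intro x
    rw [MulAut.mul_apply, MulAut.mul_apply, MulAut.conj_apply, MulAut.conj_inv_apply]
  obtain ⟨g, hg⟩ := fix_of_fix h ((MulAut.conj k)⁻¹ * α * MulAut.conj k) (by
      intro x
      rw [e1, e1]
      have e2 : k * (k⁻¹ * α (k * x * k⁻¹) * k) * k⁻¹ = α (k * x * k⁻¹) := by group
      rw [e2, hαα]
      group) (by
      rw [e1, hk]
      group) (by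
      intro h3
      apply ho
      have h4 := conj_range_normal (MulAut.conj k) h3
      have h5 : MulAut.conj k * ((MulAut.conj k)⁻¹ * α * MulAut.conj k) * (MulAut.conj k)⁻¹ = α := by group
      rwa [h5] at h4)
  rw [e1] at hg
  refine ⟨k * g, ?_⟩
  have e3 : k * g * ι vC * (k * g)⁻¹ = k * (g * ι vC * g⁻¹) * k⁻¹ := by group
  rw [e3]
  calc α (k * (g * ι vC * g⁻¹) * k⁻¹) = k * (k⁻¹ * α (k * (g * ι vC * g⁻¹) * k⁻¹) * k) * k⁻¹ := by group
    _ = k * (g * ι vC * g⁻¹) * k⁻¹ := by rw [hg]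

end Hyp

section He

open Cfsg.Agent.KFacts.He.Words Cfsg.Agent.Held.Letters

theorem vC_eq : vC = TwoSix.OfSt.xC 0 1 * TwoSix.OfSt.xC 2 4 := by
  rw [show (TwoSix.OfSt.xC 0 1 : CC) = _ from TwoSix.OfSt.xC_eq (i := 0) (j := 1) (by decide) (by decide) (by decide),
    show (TwoSix.OfSt.xC 2 4 : CC) = _ from TwoSix.OfSt.xC_eq (i := 2) (j := 4) (by decide) (by decide) (by decide)]
  rfl

theorem iota_vC : Hyp.iota vC = Classes.v := by
  rw [vC_eq, map_mul]
  have h0 : Hyp.iota (TwoSix.OfSt.xC 0 1) = xr 0 1 := Hyp.iota_xC 0 (by decide)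
  have h8 : Hyp.iota (TwoSix.OfSt.xC 2 4) = xr 2 4 := Hyp.iota_xC 8 (by decide)
  rw [h0, h8]
  unfold Classes.v
  rw [SporadicRecognition.CosetCert.ev_cons, SporadicRecognition.CosetCert.ev_cons,
    SporadicRecognition.CosetCert.ev_nil, mul_one]
  rfl

theorem v_ne : Classes.v ≠ 1 := by
  rw [← iota_vC]
  intro h
  have h1 : vC = 1 := Hyp.hyp.inj (by rw [h, map_one])
  have h2 : x 0 1 * x 2 4 = (1 : L5) := congrArg Subtype.val h1
  have h3 := congrArg cd h2
  rw [cd_mul, cd_x, cd_x, cd_one] at h3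
  revert h3
  decide +kernel

/-- **(HE1)**: an automorphism `α` of the Held group with `α² = 1` fixes a conjugate of `v` -/
theorem fix_v (α : MulAut Cfsg.Spor.He) (h : α * α = 1) :
    ∃ g : Cfsg.Spor.He, α (g * Classes.v * g⁻¹) = g * Classes.v * g⁻¹ := by
  by_cases ho : α ∈ (MulAut.conj : Cfsg.Spor.He →* MulAut Cfsg.Spor.He).range
  · obtain ⟨k, rfl⟩ := ho
    have hk : k * k = 1 := by
      have h1 : MulAut.conj (k * k) = 1 := by rw [map_mul, h]
      have h2 : k * k ∈ Subgroup.center Cfsg.Spor.He := by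
        rw [Subgroup.mem_center_iff]
        intro x
        have h3 := congrArg (fun β : MulAut Cfsg.Spor.He => β x) h1
        simp only [MulAut.conj_apply, MulAut.one_apply] at h3
        rw [mul_inv_eq_iff_eq_mul] at h3
        exact h3.symm
      have hnc : Subgroup.center Cfsg.Spor.He ≠ ⊤ := by
        intro hc
        have h4 : Hyp.iota ⟨x 0 1, x_mem _ (by decide) (by decide)⟩ ∈ Subgroup.center Cfsg.Spor.He := by
          rw [hc]; trivial
        have h5 := Subgroup.mem_center_iff.1 h4 (Hyp.iota ⟨x 1 4, x_mem _ (by decide) (by decide)⟩)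
        rw [← map_mul, ← map_mul] at h5
        have h6 : x 1 4 * x 0 1 = (x 0 1 * x 1 4 : L5) := congrArg Subtype.val (Hyp.hyp.inj h5)
        have h7 := congrArg cd h6
        rw [cd_mul, cd_mul, cd_x, cd_x] at h7
        revert h7
        decide +kernel
      rcases (inferInstance : (Subgroup.center Cfsg.Spor.He).Normal).eq_bot_or_eq_top with h4 | h4
      · rw [h4] at h2
        exact Subgroup.mem_bot.1 h2
      · exact absurd h4 hnc
    by_cases k1 : k = 1
    · exact ⟨1, by rw [k1, map_one]; rfl⟩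
    rcases Classes.two_classes hk k1 with ⟨g, hg⟩ | ⟨g, hg⟩
    · refine ⟨g, ?_⟩
      have hc : Bound.z * Classes.v = Classes.v * Bound.z := by
        rw [← iota_vC]
        exact (OddHalf.UT5.KBasic.comm_z Hyp.hyp vC).symm
      rw [← hg, MulAut.conj_apply]
      calc g * Bound.z * g⁻¹ * (g * Classes.v * g⁻¹) * (g * Bound.z * g⁻¹)⁻¹
          = g * (Bound.z * Classes.v) * Bound.z⁻¹ * g⁻¹ := by group
        _ = g * Classes.v * g⁻¹ := by rw [hc]; group
    · refine ⟨g, ?_⟩
      rw [hg, MulAut.conj_apply]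
      group
  · obtain ⟨g, hg⟩ := fix_of_hyp Hyp.hyp α h ho
    rw [iota_vC] at hg
    exact ⟨g, hg⟩

/-- the same with the generator `a` -/
theorem fix_a (α : MulAut Cfsg.Spor.He) (h : α * α = 1) :
    ∃ g : Cfsg.Spor.He, α (g * PresentedGroup.of Cfsg.Spor.He.Gen.a * g⁻¹) =
      g * PresentedGroup.of Cfsg.Spor.He.Gen.a * g⁻¹ := by
  obtain ⟨g, hg⟩ := fix_v α h
  refine ⟨g * (xr 1 3)⁻¹, ?_⟩
  have e : g * (xr 1 3)⁻¹ * PresentedGroup.of Cfsg.Spor.He.Gen.a * (g * (xr 1 3)⁻¹)⁻¹ = g * Classes.v * g⁻¹ := by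
    rw [← Classes.v_a]
    group
  rw [e, hg]

/-- transported -/
theorem fix_of_iso {K : Type*} [Group K] (e : K ≃* Cfsg.Spor.He) (α : MulAut K) (h : ∀ x, α (α x) = x) :
    ∃ g : Cfsg.Spor.He, α (e.symm (g * PresentedGroup.of Cfsg.Spor.He.Gen.a * g⁻¹)) =
      e.symm (g * PresentedGroup.of Cfsg.Spor.He.Gen.a * g⁻¹) := by
  let β : MulAut Cfsg.Spor.He := (e.symm.trans α).trans e
  have hβ : ∀ x, β x = e (α (e.symm x)) := fun x => rfl
  obtain ⟨g, hg⟩ := fix_a β (by
    apply MulEquiv.ext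
    intro x
    rw [MulAut.mul_apply, hβ, hβ, e.symm_apply_apply, h, e.apply_symm_apply]
    rfl)
  refine ⟨g, ?_⟩
  rw [hβ] at hg
  apply e.injective
  rw [hg, e.apply_symm_apply]

end He

end Cfsg.Agent.KFacts.He.InvolAut
end
end
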